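import Cfsg.Agent.H36.GLTwoThree.Model

/-!
# The combinatorics of five special character columns and the resulting order equation
-/

set_option autoImplicit false

namespace Cfsg.Agent.H36.GLTwoThree

open Finset

theorem check_range : ∀ E ∈ Finset.Icc (-64 : ℤ) 80, (E - 8) ∣ 72 → E ≠ -4 →
    (E + 4) * (E + 4) ∣ 576 * E * (E + 1) →
    (576 * E * (E + 1) / ((E + 4) * (E + 4))) % 2 = 1 →
    576 * E * (E + 1) / ((E + 4) * (E + 4)) = 351 ∨
      576 * E * (E + 1) / ((E + 4) * (E + 4)) = 495 := by decide +kernel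

/-- The order from the two class equations. -/
theorem order_of_degrees (m : ℕ) (hm : Odd m) (U E V W : ℤ) (hU : U ≠ 0) (hE : E ≠ 0) (hV : V ≠ 0)
    (hV1 : V ≠ 1) (hW : W ≠ 0) (h1 : 1 + U + E = 0) (h2 : E + V + W = 0)
    (e1 : ((16 * m : ℕ) : ℚ) * (1 + 9 / U + 16 / E) = 9216)
    (e2 : ((16 * m : ℕ) : ℚ) * (16 / E + 1 / V + 9 / W) = 9216) :
    16 * m = 5616 ∨ 16 * m = 7920 := by
  have hn : ((16 * m : ℕ) : ℚ) ≠ 0 := fun h => by rw [h, zero_mul] at e1; norm_num at e1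
  have hU' : (U : ℚ) ≠ 0 := by exact_mod_cast hU
  have hE' : (E : ℚ) ≠ 0 := by exact_mod_cast hE
  have hV' : (V : ℚ) ≠ 0 := by exact_mod_cast hV
  have hW' : (W : ℚ) ≠ 0 := by exact_mod_cast hW
  have e := mul_left_cancel₀ hn (e1.trans e2.symm)
  field_simp at e
  push_cast at e1
  field_simp at e1
  have eu : U = -1 - E := by omega
  have ew : W = -E - V := by omega
  subst eu ew
  push_cast at e e1
  have hfac : ((V - 1) * (E * E + E * (V + 1) - 8 * V) : ℚ) = 0 := by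
    have hc : (E : ℚ) * ((V - 1) * (E * E + E * (V + 1) - 8 * V)) = 0 := by linear_combination e
    exact (mul_eq_zero.1 hc).resolve_left hE'
  have hfac' : (V - 1) * (E * E + E * (V + 1) - 8 * V) = 0 := by exact_mod_cast hfac
  have hv : E * E + E * (V + 1) - 8 * V = 0 :=
    (mul_eq_zero.1 hfac').resolve_left (sub_ne_zero.2 hV1)
  have hd : (E - 8) ∣ 72 := ⟨-(V + E + 9), by linear_combination hv⟩
  have hm' : (m : ℤ) * ((E + 4) * (E + 4)) = 576 * E * (E + 1) := by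
    have h : ((m : ℚ) * ((E + 4) * (E + 4))) = 576 * E * (E + 1) := by linear_combination (-1/16 : ℚ) * e1
    exact_mod_cast h
  have hE4 : E ≠ -4 := by rintro rfl; norm_num at hm'
  have hne : (E + 4) * (E + 4) ≠ 0 := mul_ne_zero (by omega) (by omega)
  have hr : -72 ≤ E - 8 ∧ E - 8 ≤ 72 :=
    ⟨by have := Int.le_of_dvd (by norm_num) (neg_dvd.2 hd); omega,
      Int.le_of_dvd (by norm_num) hd⟩
  have hq : 576 * E * (E + 1) / ((E + 4) * (E + 4)) = m := by
    rw [← hm', Int.mul_ediv_cancel _ hne]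
  have := check_range E (Finset.mem_Icc.2 ⟨by omega, by omega⟩) hd hE4 ⟨m, by rw [← hm']; ring⟩
    (by rw [hq]; obtain ⟨k, rfl⟩ := hm; omega)
  rw [hq] at this
  omega

theorem five_pattern : ∀ E ∈ ({-1, 0, 1} : Finset ℤ), ∀ U ∈ ({-1, 0, 1} : Finset ℤ),
    ∀ V ∈ ({-1, 0, 1} : Finset ℤ), ∀ W ∈ ({-1, 0, 1} : Finset ℤ),
    E + U = 1 → E + (V + W) = 2 → E * E + (U * U + (V * V + W * W)) ≤ 2 →
      E = 1 ∧ U = 0 ∧ ((V = 1 ∧ W = 0) ∨ (V = 0 ∧ W = 1)) := by decide +kernel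

theorem abs_le_one {r k : ℤ} (h : r * r ≤ k) (hk : k ≤ 3) : r = -1 ∨ r = 0 ∨ r = 1 := by
  have h1 : -1 ≤ r := by nlinarith
  have h2 : r ≤ 1 := by nlinarith
  omega

theorem mul_self_one {r : ℤ} (h : r = -1 ∨ r = 0 ∨ r = 1) (h0 : r ≠ 0) : r * r = 1 := by
  rcases h with rfl | rfl | rfl <;> simp_all

theorem ratio_sign {a d c : ℤ} (ha : a * a = 1) (hd : d ≠ 0) :
    (a : ℚ) * ((c * a : ℤ) : ℚ) ^ 2 / (d : ℚ) = (c : ℚ) ^ 2 / ((a * d : ℤ) : ℚ) := by
  have ha' : (a : ℚ) * a = 1 := by exact_mod_cast ha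
  have hd' : (d : ℚ) ≠ 0 := by exact_mod_cast hd
  have ha0 : (a : ℚ) ≠ 0 := fun h => by rw [h, zero_mul] at ha'; norm_num at ha'
  push_cast
  field_simp
  linear_combination (((a : ℚ) ^ 2 + 1) * (c : ℚ) ^ 2) * ha'

theorem parity_table : ∀ a ∈ ({-1, 0, 1} : Finset ℤ), ∀ b ∈ ({-1, 0, 1} : Finset ℤ),
    ∀ c ∈ ({-1, 0, 1} : Finset ℤ), ∀ d ∈ ({-1, 0, 1} : Finset ℤ),
    a ≠ 0 → b ≠ 0 → (c = 0 ↔ d = 0) → a * c + b * d ≠ 1 := by decide +kernel

theorem parity {a b c d : ℤ} (ha : a = -1 ∨ a = 0 ∨ a = 1) (hb : b = -1 ∨ b = 0 ∨ b = 1)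
    (hc : c = -1 ∨ c = 0 ∨ c = 1) (hd : d = -1 ∨ d = 0 ∨ d = 1) (ha0 : a ≠ 0) (hb0 : b ≠ 0)
    (hcd : c = 0 ↔ d = 0) : a * c + b * d ≠ 1 :=
  parity_table a (by simpa using ha) b (by simpa using hb) c (by simpa using hc) d
    (by simpa using hd) ha0 hb0 hcd

variable {ι : Type*} [Fintype ι] [DecidableEq ι]

set_option maxHeartbeats 1000000

theorem order_of_table (o : ι) (m : ℕ) (hm : Odd m) (d q : ι → ℤ) (a : Fin 5 → ι → ℤ)
    (hgram : ∀ i j, ∑ x, a i x * a j x = gram i j) (ho : ∀ i, a i o = ![0, 0, 1, 0, 1] i)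
    (hdo : d o = 1) (hd0 : ∀ x, d x ≠ 0) (hd1 : ∀ x, x ≠ o → d x ≠ 1 ∧ d x ≠ -1)
    (hdeg : ∀ i, ∑ x, a i x * d x = 0)
    (hq : ∀ x, q x = ∑ i, coef i * a i x)
    (heq : ∀ i, (((16 * m : ℕ) : ℚ)) * ∑ x, (a i x : ℚ) * (q x : ℚ) ^ 2 / (d x : ℚ) =
      2304 * (pairVal i : ℚ)) :
    16 * m = 5616 ∨ 16 * m = 7920 := by
  classical
  set s := Finset.univ.erase o with hs
  have hS : ∀ i j, ∑ x ∈ s, a i x * a j x = gram i j - ![0, 0, 1, 0, 1] i * ![0, 0, 1, 0, 1] j := by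
    intro i j
    rw [← hgram i j, ← Finset.add_sum_erase _ _ (Finset.mem_univ o), ho, ho, ← hs]
    ring
  have hle : ∀ i, ∀ T : Finset ι, T ⊆ s →
      ∑ x ∈ T, a i x * a i x ≤ gram i i - ![0, 0, 1, 0, 1] i * ![0, 0, 1, 0, 1] i := fun i T hT =>
    hS i i ▸ Finset.sum_le_sum_of_subset_of_nonneg hT fun x _ _ => mul_self_nonneg _
  have hb : ∀ i, ∀ x ∈ s, a i x = -1 ∨ a i x = 0 ∨ a i x = 1 := fun i x hx => by
    have h := hle i {x} (Finset.singleton_subset_iff.2 hx)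
    rw [Finset.sum_singleton] at h
    exact abs_le_one h (by fin_cases i <;> decide)
  have hsupp : ∀ i, ((s.filter fun x => a i x ≠ 0).card : ℤ) =
      gram i i - ![0, 0, 1, 0, 1] i * ![0, 0, 1, 0, 1] i := fun i => by
    rw [← hS i i, ← Finset.sum_boole]
    refine Finset.sum_congr rfl fun x hx => ?_
    rcases hb i x hx with h | h | h <;> simp [h]
  have hc3 : (s.filter fun x => a 2 x ≠ 0).card = 2 := by
    have := (hsupp 2).trans (show _ = ((2 : ℕ) : ℤ) by decide); exact_mod_cast this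
  have hc4 : (s.filter fun x => a 3 x ≠ 0).card = 3 := by
    have := (hsupp 3).trans (show _ = ((3 : ℕ) : ℤ) by decide); exact_mod_cast this
  obtain ⟨p, r, hpr, hS3⟩ := Finset.card_eq_two.1 hc3
  have hmem3 : ∀ x ∈ s, a 2 x ≠ 0 ↔ x = p ∨ x = r := fun x hx => by
    have := Finset.ext_iff.1 hS3 x
    simpa [hx] using this
  have hps : p ∈ s ∧ r ∈ s := by
    constructor
    · exact (Finset.mem_filter.1 (hS3 ▸ Finset.mem_insert_self p {r})).1
    · exact (Finset.mem_filter.1 (hS3 ▸ Finset.mem_insert_of_mem (Finset.mem_singleton_self r))).1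
  have h34 : a 2 p * a 3 p + a 2 r * a 3 r = 1 := by
    rw [← Finset.sum_pair (f := fun x => a 2 x * a 3 x) hpr, ← hS3, Finset.sum_filter]
    refine (Finset.sum_congr rfl fun x _ => ?_).trans (hS 2 3)
    by_cases h : a 2 x = 0 <;> simp [h]
  obtain ⟨e, u, he, hu, hs3, he3, hu3, he4, hu4⟩ : ∃ e u, e ∈ s ∧ u ∈ s ∧
      (∀ x ∈ s, x ≠ e → x ≠ u → a 2 x = 0) ∧ a 2 e ≠ 0 ∧ a 2 u ≠ 0 ∧ a 3 e = a 2 e ∧ a 3 u = 0 := by
    have hp3 := (hmem3 p hps.1).2 (Or.inl rfl)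
    have hr3 := (hmem3 r hps.2).2 (Or.inr rfl)
    have hout : ∀ x ∈ s, x ≠ p → x ≠ r → a 2 x = 0 := fun x hx h1 h2 => by
      by_contra h
      rcases (hmem3 x hx).1 h with e | e
      exacts [h1 e, h2 e]
    by_cases h0 : a 3 r = 0
    · refine ⟨p, r, hps.1, hps.2, hout, hp3, hr3, ?_, h0⟩
      rw [h0, mul_zero, add_zero] at h34
      rcases hb 2 p hps.1 with h | h | h <;> rw [h] at h34 ⊢ <;> omega
    · have h0' : a 3 p = 0 := by
        by_contra h
        exact parity (hb 2 p hps.1) (hb 2 r hps.2) (hb 3 p hps.1) (hb 3 r hps.2) hp3 hr3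
          (iff_of_false h h0) h34
      refine ⟨r, p, hps.2, hps.1, fun x hx h1 h2 => hout x hx h2 h1, hr3, hp3, ?_, h0'⟩
      rw [h0', mul_zero, zero_add] at h34
      rcases hb 2 r hps.2 with h | h | h <;> rw [h] at h34 ⊢ <;> omega
  have heu : e ≠ u := fun h => he3 (by rw [← he4, h, hu4])
  have hcvw : ((s.filter fun x => a 3 x ≠ 0).erase e).card = 2 := by
    rw [Finset.card_erase_of_mem (Finset.mem_filter.2 ⟨he, he4 ▸ he3⟩), hc4]
  obtain ⟨v, w, hvw, hS4⟩ := Finset.card_eq_two.1 hcvw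
  have hmem4 : ∀ x, (x = v ∨ x = w) ↔ x ≠ e ∧ x ∈ s ∧ a 3 x ≠ 0 := fun x => by
    have := Finset.ext_iff.1 hS4 x
    simpa [and_assoc] using this.symm
  obtain ⟨hve, hv, hv4⟩ := (hmem4 v).1 (Or.inl rfl)
  obtain ⟨hwe, hw, hw4⟩ := (hmem4 w).1 (Or.inr rfl)
  have hvu : v ≠ u := fun h => hv4 (h ▸ hu4)
  have hwu : w ≠ u := fun h => hw4 (h ▸ hu4)
  have hv3 : a 2 v = 0 := hs3 v hv hve hvu
  have hw3 : a 2 w = 0 := hs3 w hw hwe hwu
  have hs4 : ∀ x ∈ s, x ≠ e → x ≠ v → x ≠ w → a 3 x = 0 := fun x hx h1 h2 h3 => by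
    by_contra h
    rcases (hmem4 x).2 ⟨h1, hx, h⟩ with e | e
    exacts [h2 e, h3 e]
  set T : Finset ι := {e, u, v, w} with hT
  have hTs : T ⊆ s := by
    simp [hT, Finset.insert_subset_iff, he, hu, hv, hw]
  have hsumT : ∀ f : ι → ℤ, ∑ x ∈ T, f x = f e + (f u + (f v + f w)) := fun f => by
    rw [hT, Finset.sum_insert (by simp [heu, hve.symm, hwe.symm]),
      Finset.sum_insert (by simp [hvu.symm, hwu.symm]), Finset.sum_pair hvw]
  have hsum3 : ∀ g : ι → ℤ, ∑ x ∈ s, a 2 x * g x = a 2 e * g e + a 2 u * g u := fun g => by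
    rw [← Finset.sum_subset hTs (fun x hx hxT => by
      simp only [hT, Finset.mem_insert, Finset.mem_singleton, not_or] at hxT
      simp [hs3 x hx hxT.1 hxT.2.1]), hsumT]
    simp [hv3, hw3]
  have hsum4 : ∀ g : ι → ℤ,
      ∑ x ∈ s, a 3 x * g x = a 3 e * g e + (a 3 v * g v + a 3 w * g w) := fun g => by
    rw [← Finset.sum_subset hTs (fun x hx hxT => by
      simp only [hT, Finset.mem_insert, Finset.mem_singleton, not_or] at hxT
      simp [hs4 x hx hxT.1 hxT.2.2.1 hxT.2.2.2]), hsumT]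
    simp [hu4]
  -- the first two columns avoid the four characters
  have key : ∀ i : Fin 5, gram i i - ![0, 0, 1, 0, 1] i * ![0, 0, 1, 0, 1] i = 2 →
      (∑ x ∈ s, a 2 x * a i x) = 0 → (∑ x ∈ s, a 3 x * a i x) = 0 →
      a i e = 0 ∧ a i u = 0 ∧ (a i v = 0 ↔ a i w = 0) ∧
        (a i v ≠ 0 → ∀ x ∈ s, x ≠ v → x ≠ w → a i x = 0) := by
    intro i hi h2 h3
    rw [hsum3] at h2
    rw [hsum4, he4] at h3
    have hT2 := hle i T hTs
    rw [hsumT, hi] at hT2
    have e0 : a i e = 0 := by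
      by_contra h
      have hu0 : a i u ≠ 0 := fun h' => by simp [h', he3, h] at h2
      have h1 := mul_self_one (hb i e he) h
      have h1' := mul_self_one (hb i u hu) hu0
      have hv0 : a i v = 0 := by
        by_contra h'
        have := mul_self_one (hb i v hv) h'
        nlinarith [mul_self_nonneg (a i w)]
      have hw0 : a i w = 0 := by
        by_contra h'
        have := mul_self_one (hb i w hw) h'
        nlinarith [mul_self_nonneg (a i v)]
      simp [hv0, hw0, he3, h] at h3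
    have u0 : a i u = 0 := by simpa [e0, hu3] using h2
    rw [e0, mul_zero, zero_add] at h3
    refine ⟨e0, u0, ⟨fun h => by simpa [h, hw4] using h3, fun h => by simpa [h, hv4] using h3⟩, ?_⟩
    intro hv0 x hx hxv hxw
    have hw0 : a i w ≠ 0 := fun h => hv0 (by simpa [h, hv4] using h3)
    by_cases hxT : x ∈ T
    · simp only [hT, Finset.mem_insert, Finset.mem_singleton] at hxT
      rcases hxT with rfl | rfl | rfl | rfl
      exacts [e0, u0, absurd rfl hxv, absurd rfl hxw]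
    by_contra hx0
    have h5 := hle i (insert x T) (Finset.insert_subset hx hTs)
    rw [Finset.sum_insert hxT, hsumT, hi, mul_self_one (hb i x hx) hx0,
      mul_self_one (hb i v hv) hv0, mul_self_one (hb i w hw) hw0] at h5
    nlinarith [mul_self_nonneg (a i e), mul_self_nonneg (a i u)]
  have hz : ∀ i j : Fin 5, ∑ x ∈ s, a i x * a j x = ∑ x ∈ s, a j x * a i x := fun i j =>
    Finset.sum_congr rfl fun x _ => mul_comm _ _
  obtain ⟨e1, u1, h1vw, h1out⟩ := key 0 (by decide) (by rw [hS]; decide) (by rw [hS]; decide)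
  obtain ⟨e2, u2, h2vw, h2out⟩ := key 1 (by decide) (by rw [hS]; decide) (by rw [hS]; decide)
  have h12 : ∑ x ∈ s, a 0 x * a 1 x = 1 := by rw [hS]; decide
  have hloc : ∀ i j : Fin 5, (∀ x ∈ s, x ≠ v → x ≠ w → a i x = 0) →
      ∑ x ∈ s, a i x * a j x = a i v * a j v + a i w * a j w := fun i j hout => by
    rw [← Finset.sum_pair (f := fun x => a i x * a j x) hvw]
    refine (Finset.sum_subset (by simp [Finset.insert_subset_iff, hv, hw]) fun x hx hxT => ?_).symm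
    simp only [Finset.mem_insert, Finset.mem_singleton, not_or] at hxT
    simp [hout x hx hxT.1 hxT.2]
  have hodd : ∀ i j : Fin 5, a i v ≠ 0 → a i w ≠ 0 → (a j v = 0 ↔ a j w = 0) →
      a i v * a j v + a i w * a j w ≠ 1 := fun i j hiv hiw hj =>
    parity (hb i v hv) (hb i w hw) (hb j v hv) (hb j w hw) hiv hiw hj
  have v1 : a 0 v = 0 := by
    by_contra h
    rw [hloc 0 1 (h1out h)] at h12
    exact hodd 0 1 h (fun h' => h (h1vw.2 h')) h2vw h12
  have v2 : a 1 v = 0 := by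
    by_contra h
    rw [hz, hloc 1 0 (h2out h)] at h12
    exact hodd 1 0 h (fun h' => h (h2vw.2 h')) h1vw h12
  have w1 : a 0 w = 0 := h1vw.1 v1
  have w2 : a 1 w = 0 := h2vw.1 v2
  -- the fifth column
  obtain ⟨z, hzs, hz5, hzT⟩ : ∃ z ∈ s, a 4 z ≠ 0 ∧ z ∉ T := by
    by_contra hno
    push Not at hno
    have h15 : ∑ x ∈ s, a 0 x * a 4 x = -1 := by rw [hS]; decide
    rw [Finset.sum_eq_zero fun x hx => ?_] at h15
    · norm_num at h15
    · by_cases h : a 4 x = 0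
      · rw [h, mul_zero]
      · have hxT := hno x hx h
        simp only [hT, Finset.mem_insert, Finset.mem_singleton] at hxT
        rcases hxT with rfl | rfl | rfl | rfl <;> simp [e1, u1, v1, w1]
  have h35 : ∑ x ∈ s, a 2 x * a 4 x = 1 := by rw [hS]; decide
  have h45 : ∑ x ∈ s, a 3 x * a 4 x = 2 := by rw [hS]; decide
  rw [hsum3] at h35
  rw [hsum4] at h45
  rw [he4] at h45
  have h5 : a 4 z * a 4 z + ∑ x ∈ T, a 4 x * a 4 x ≤ 3 := by
    have := hle 4 (insert z T) (Finset.insert_subset hzs hTs)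
    rw [Finset.sum_insert hzT] at this
    exact this.trans (le_of_eq (by decide))
  rw [hsumT, mul_self_one (hb 4 z hzs) hz5] at h5
  have hmem : ∀ {c r : ℤ}, (c = -1 ∨ c = 0 ∨ c = 1) → (r = -1 ∨ r = 0 ∨ r = 1) →
      c * r ∈ ({-1, 0, 1} : Finset ℤ) := by
    rintro c r (rfl | rfl | rfl) (rfl | rfl | rfl) <;> decide
  have hse := mul_self_one (hb 2 e he) he3
  have hsu := mul_self_one (hb 2 u hu) hu3
  have hsv := mul_self_one (hb 3 v hv) hv4
  have hsw := mul_self_one (hb 3 w hw) hw4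
  obtain ⟨pe, pu, pvw⟩ := five_pattern _ (hmem (hb 2 e he) (hb 4 e he)) _
    (hmem (hb 2 u hu) (hb 4 u hu)) _ (hmem (hb 3 v hv) (hb 4 v hv)) _
    (hmem (hb 3 w hw) (hb 4 w hw)) h35 h45 (by
      have r1 : a 2 e * a 4 e * (a 2 e * a 4 e) = a 4 e * a 4 e := by
        linear_combination (a 4 e * a 4 e) * hse
      have r2 : a 2 u * a 4 u * (a 2 u * a 4 u) = a 4 u * a 4 u := by
        linear_combination (a 4 u * a 4 u) * hsu
      have r3 : a 3 v * a 4 v * (a 3 v * a 4 v) = a 4 v * a 4 v := by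
        linear_combination (a 4 v * a 4 v) * hsv
      have r4 : a 3 w * a 4 w * (a 3 w * a 4 w) = a 4 w * a 4 w := by
        linear_combination (a 4 w * a 4 w) * hsw
      rw [r1, r2, r3, r4]
      omega)
  have e5 : a 4 e = a 2 e := by linear_combination (a 2 e) * pe - (a 4 e) * hse
  have u5 : a 4 u = 0 := by simpa [hu3] using pu
  have qe : q e = 4 * a 2 e := by
    rw [hq, Fin.sum_univ_five, e1, e2, he4, e5]; simp [coef]; ring
  have qu : q u = 3 * a 2 u := by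
    rw [hq, Fin.sum_univ_five, u1, u2, hu4, u5]; simp [coef]
  -- finish, after possibly exchanging `v` and `w`
  have hdegs : ∀ i, a i o + ∑ x ∈ s, a i x * d x = 0 := fun i => by
    have h := hdeg i
    rwa [← Finset.add_sum_erase _ _ (Finset.mem_univ o), ← hs, hdo, mul_one] at h
  have hd3 := hdegs 2
  have hd4 := hdegs 3
  rw [hsum3 d, ho] at hd3
  rw [hsum4 d, ho, he4] at hd4
  have hsum : ∀ i, ∑ x, (a i x : ℚ) * (q x : ℚ) ^ 2 / (d x : ℚ) =
      (a i o : ℚ) + ∑ x ∈ s, (a i x : ℚ) * (q x : ℚ) ^ 2 / (d x : ℚ) := fun i => by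
    rw [← Finset.add_sum_erase _ _ (Finset.mem_univ o), ← hs]
    have hqo : q o = 1 := by rw [hq, Fin.sum_univ_five]; simp [ho, coef]
    simp [hdo, hqo]
  have hsubT : ∀ i : Fin 5, (∀ x ∈ s, x ∉ T → a i x = 0) →
      ∑ x ∈ s, (a i x : ℚ) * (q x : ℚ) ^ 2 / (d x : ℚ) =
        (a i e : ℚ) * (q e : ℚ) ^ 2 / d e + ((a i u : ℚ) * (q u : ℚ) ^ 2 / d u +
          ((a i v : ℚ) * (q v : ℚ) ^ 2 / d v + (a i w : ℚ) * (q w : ℚ) ^ 2 / d w)) := fun i hi => by
    rw [← Finset.sum_subset hTs (fun x hx hxT => by simp [hi x hx hxT]), hT,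
      Finset.sum_insert (by simp [heu, hve.symm, hwe.symm]),
      Finset.sum_insert (by simp [hvu.symm, hwu.symm]), Finset.sum_pair hvw]
  have eq3 := heq 2
  have eq4 := heq 3
  rw [hsum, hsubT _ (fun x hx hxT => by
    simp only [hT, Finset.mem_insert, Finset.mem_singleton, not_or] at hxT
    exact hs3 x hx hxT.1 hxT.2.1), hv3, hw3, ho, qe, qu, ratio_sign hse (hd0 e),
    ratio_sign hsu (hd0 u)] at eq3
  rw [hsum, hsubT _ (fun x hx hxT => by
    simp only [hT, Finset.mem_insert, Finset.mem_singleton, not_or] at hxT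
    exact hs4 x hx hxT.1 hxT.2.2.1 hxT.2.2.2), hu4, ho, he4, qe,
    ratio_sign hse (hd0 e)] at eq4
  have o2 : (![0, 0, 1, 0, 1] : Fin 5 → ℤ) 2 = 1 := rfl
  have o3 : (![0, 0, 1, 0, 1] : Fin 5 → ℤ) 3 = 0 := rfl
  rw [o2] at hd3 eq3
  rw [o3] at hd4 eq4
  rw [show pairVal 2 = 4 from rfl] at eq3
  rw [show pairVal 3 = 4 from rfl] at eq4
  have hne : ∀ x ∈ s, x ≠ o := fun x hx => (Finset.mem_erase.1 hx).1
  have hE := mul_ne_zero he3 (hd0 e)
  have hU := mul_ne_zero hu3 (hd0 u)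
  have hV := mul_ne_zero hv4 (hd0 v)
  have hW := mul_ne_zero hw4 (hd0 w)
  have hne1 : ∀ x ∈ s, a 3 x * a 3 x = 1 → a 3 x * d x ≠ 1 := fun x hx h1 h => by
    have : d x = a 3 x := by linear_combination (a 3 x) * h - (d x) * h1
    rcases hb 3 x hx with e | e | e
    · exact (hd1 x (hne x hx)).2 (this.trans e)
    · rw [e] at h1; norm_num at h1
    · exact (hd1 x (hne x hx)).1 (this.trans e)
  have hd3' : 1 + a 2 u * d u + a 2 e * d e = 0 := by
    linarith
  have hd4' : a 2 e * d e + (a 3 v * d v + a 3 w * d w) = 0 := by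
    linarith
  rcases pvw with ⟨pv, pw⟩ | ⟨pv, pw⟩
  · have v5 : a 4 v = a 3 v := by linear_combination (a 3 v) * pv - (a 4 v) * hsv
    have w5 : a 4 w = 0 := by simpa [hw4] using pw
    have qv : q v = 1 * a 3 v := by
      rw [hq, Fin.sum_univ_five, v1, v2, hv3, v5]; simp [coef]; ring
    have qw : q w = 3 * a 3 w := by
      rw [hq, Fin.sum_univ_five, w1, w2, hw3, w5]; simp [coef]
    rw [qv, qw, ratio_sign hsv (hd0 v), ratio_sign hsw (hd0 w)] at eq4
    refine order_of_degrees m hm _ _ _ _ hU hE hV (hne1 v hv hsv) hW hd3' (by linarith) ?_ ?_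
    · norm_num at eq3 ⊢; linear_combination eq3
    · norm_num at eq4 ⊢; linear_combination eq4
  · have v5 : a 4 v = 0 := by simpa [hv4] using pv
    have w5 : a 4 w = a 3 w := by linear_combination (a 3 w) * pw - (a 4 w) * hsw
    have qv : q v = 3 * a 3 v := by
      rw [hq, Fin.sum_univ_five, v1, v2, hv3, v5]; simp [coef]
    have qw : q w = 1 * a 3 w := by
      rw [hq, Fin.sum_univ_five, w1, w2, hw3, w5]; simp [coef]; ring
    rw [qv, qw, ratio_sign hsv (hd0 v), ratio_sign hsw (hd0 w)] at eq4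
    refine order_of_degrees m hm _ _ _ _ hU hE hW (hne1 w hw hsw) hV hd3' (by linarith) ?_ ?_
    · norm_num at eq3 ⊢; linear_combination eq3
    · norm_num at eq4 ⊢; linear_combination eq4

end Cfsg.Agent.H36.GLTwoThree
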