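import Cfsg.Agent.H36.GLTwoThree.Model
import Cfsg.Agent.CharInduce.Induce

/-!
# The five generalised characters of `GL(2, 3)`
-/

set_option autoImplicit false
set_option linter.style.haveILetI false

namespace Cfsg.Agent.H36.GLTwoThree

open Cfsg Cfsg.Agent.CharBasic Cfsg.Agent.CharInduce Finset
open scoped ComplexConjugate

/-- A primitive eighth root of unity. -/
noncomputable def root : ℂ := ((Real.sqrt 2 / 2 : ℝ) : ℂ) * (1 + Complex.I)

/-- `√-2`. -/
noncomputable def rootNegTwo : ℂ := root + root ^ 3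

theorem root_sq : root ^ 2 = Complex.I := by
  have h : ((Real.sqrt 2 / 2 : ℝ) : ℂ) ^ 2 = 1 / 2 := by
    rw [← Complex.ofReal_pow, div_pow, Real.sq_sqrt (by norm_num)]
    norm_num
  rw [root, mul_pow, h]
  linear_combination (1 / 2 : ℂ) * Complex.I_sq

theorem root_four : root ^ 4 = -1 := by
  rw [show root ^ 4 = (root ^ 2) ^ 2 by ring, root_sq, Complex.I_sq]

theorem rootNegTwo_sq : rootNegTwo * rootNegTwo = -2 := by
  rw [rootNegTwo]
  linear_combination (2 + root ^ 2) * root_four

theorem conj_rootNegTwo : conj rootNegTwo = -rootNegTwo := by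
  have e : rootNegTwo = (Real.sqrt 2 : ℂ) * Complex.I := by
    rw [rootNegTwo, show root + root ^ 3 = root * (1 + root ^ 2) by ring, root_sq, root]
    push_cast
    linear_combination ((Real.sqrt 2 : ℂ) / 2) * Complex.I_sq
  rw [e, map_mul, Complex.conj_ofReal, Complex.conj_I, mul_neg]

/-- The five functions. -/
noncomputable def th (i : Fin 5) (k : K) : ℂ := (thA i k : ℂ) + (thB i k : ℂ) * rootNegTwo

theorem conj_th (i : Fin 5) (k : K) :
    conj (th i k) = (thA i k : ℂ) - (thB i k : ℂ) * rootNegTwo := by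
  simp [th, conj_rootNegTwo, sub_eq_add_neg]

theorem isGen_mono (H : Subgroup K) [DecidablePred (· ∈ H)] (f : K → ℂ) (hf1 : f 1 = 1)
    (hf : ∀ a b, a ∈ H → b ∈ H → f (a * b) = f a * f b) (v : K → ℂ) (n : ℕ) (hn : Nat.card H = n)
    (hv : ∀ g, (∑ h : K, if h⁻¹ * g * h ∈ H then f (h⁻¹ * g * h) else 0) = (n : ℂ) * v g) :
    IsGeneralizedCharacter K v := by
  let l : H →* ℂˣ := MonoidHom.toHomUnits
    { toFun := fun h => f h.1
      map_one' := hf1
      map_mul' := fun a b => hf a b a.2 b.2 }
  have e : v = indFun H (fun h => (l h : ℂ)) := by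
    funext g
    have hne : (n : ℂ) ≠ 0 := by
      rw [← hn]; exact card_ne_zero_complex H
    rw [indFun_apply, hn]
    have hx : ∀ h : K, extendByZero H (fun x => (l x : ℂ)) (h⁻¹ * g * h) =
        if h⁻¹ * g * h ∈ H then f (h⁻¹ * g * h) else 0 := by
      intro h
      split_ifs with hm
      · rw [extendByZero_of_mem _ hm]; rfl
      · rw [extendByZero_of_not_mem _ hm]
    simp only [hx]
    rw [hv g, inv_mul_cancel_left₀ hne]
  rw [e]
  exact CharInduce.IsGen.of_char (IsChar.ind H (isCharacter_hom l))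

theorem isGen_mono_int (H : Subgroup K) [DecidablePred (· ∈ H)] (f : K → ℤ) (hf1 : f 1 = 1)
    (hf : ∀ a b, a ∈ H → b ∈ H → f (a * b) = f a * f b) (v : K → ℤ) (n : ℕ) (hn : Nat.card H = n)
    (hv : ∀ g, (∑ h : K, if h⁻¹ * g * h ∈ H then f (h⁻¹ * g * h) else 0) = (n : ℤ) * v g) :
    IsGeneralizedCharacter K fun g => (v g : ℂ) :=
  isGen_mono H (fun g => (f g : ℂ)) (by simp [hf1]) (fun a b ha hb => by simp [hf a b ha hb]) _ n hn
    fun g => by
      have h := congrArg (Int.cast : ℤ → ℂ) (hv g)
      push_cast at h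
      rw [← h]

theorem gen_one : IsGeneralizedCharacter K fun g => (monOne (cls g) : ℂ) := by
  have e : (fun g => (monOne (cls g) : ℂ)) = fun _ : K => (1 : ℂ) := by
    funext g
    have : monOne (cls g) = 1 := by generalize cls g = c; fin_cases c <;> rfl
    simp [this]
  rw [e]; exact CharInduce.IsGen.of_char IsChar.one

theorem gen_det : IsGeneralizedCharacter K fun g => (monDet (cls g) : ℂ) :=
  haveI : DecidablePred (· ∈ (⊤ : Subgroup K)) := fun _ => isTrue trivial
  isGen_mono_int ⊤ (fun k => sgn (kdet k)) rfl (fun a b _ _ => sgn_mul_det a b) _ 48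
    (by rw [Subgroup.card_top, card_K]) fun g => by
      simpa using ind_det g

theorem gen_borel : IsGeneralizedCharacter K fun g => (monBorel (cls g) : ℂ) :=
  isGen_mono_int borel (fun _ => 1) rfl (fun _ _ _ _ => rfl) _ 12 card_borel fun g => by
    simpa using (ind_borel g).1

theorem gen_borelDet : IsGeneralizedCharacter K fun g => (monBorelDet (cls g) : ℂ) :=
  isGen_mono_int borel (fun k => sgn (kdet k)) rfl (fun a b _ _ => sgn_mul_det a b) _ 12 card_borel
    fun g => by simpa using (ind_borel g).2.1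

theorem gen_borelTop : IsGeneralizedCharacter K fun g => (monBorelTop (cls g) : ℂ) :=
  isGen_mono_int borel (fun k => sgn k.1.1) rfl sgn_mul_top _ 12 card_borel
    fun g => by simpa using (ind_borel g).2.2

theorem gen_semi : IsGeneralizedCharacter K fun g => (monSemi (cls g) : ℂ) :=
  isGen_mono_int semiDih (fun _ => 1) rfl (fun _ _ _ _ => rfl) _ 16 card_semiDih fun g => by
    simpa using ind_semi g

theorem gen_torus {w : ℂ} (hw : w ^ 4 = -1) :
    IsGeneralizedCharacter K
      fun g => (monTorusA (cls g) : ℂ) + (monTorusB (cls g) : ℂ) * (w + w ^ 3) := by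
  have hw8 : w ^ 8 = 1 := by linear_combination (w ^ 4 - 1) * hw
  have hc : ∀ m, m < 8 → w ^ m = ∑ j : Fin 4, (rootCoef j m : ℂ) * w ^ (j : ℕ) := by
    intro m hm
    rw [Fin.sum_univ_four]
    interval_cases m <;> simp [rootCoef] <;>
      first
        | ring1
        | linear_combination hw
        | linear_combination w * hw
        | linear_combination w ^ 2 * hw
        | linear_combination w ^ 3 * hw
  refine isGen_mono torus (fun k => w ^ lg k) (by simp [lg])
    (fun a b ha hb => by
      simp only [lg_mul a b ha hb, ← pow_add]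
      exact (pow_eq_pow_mod _ hw8).symm) _ 8 card_torus fun g => ?_
  obtain ⟨h0, h1, h2, h3⟩ := ind_torus g
  have hterm : ∀ h : K, (if h⁻¹ * g * h ∈ torus then w ^ lg (h⁻¹ * g * h) else 0) =
      ∑ j : Fin 4, ((if h⁻¹ * g * h ∈ torus then rootCoef j (lg (h⁻¹ * g * h)) else 0 : ℤ) : ℂ) *
        w ^ (j : ℕ) := by
    intro h
    split_ifs
    · exact hc _ (lg_lt _)
    · simp
  simp only [hterm]
  rw [Finset.sum_comm]
  simp only [← Finset.sum_mul, ← Int.cast_sum, Fin.sum_univ_four, h0, h1, h2, h3]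
  simp only [Fin.val_zero, Fin.val_one, Fin.val_two, show ((3 : Fin 4) : ℕ) = 3 from rfl]
  push_cast
  ring

theorem gen_th (i : Fin 5) : IsGeneralizedCharacter K (th i) := by
  have base : ∀ (f g : K → ℂ), IsGeneralizedCharacter K f → f = g → IsGeneralizedCharacter K g :=
    fun _ _ h e => e ▸ h
  have hneg : (-root) ^ 4 = -1 := by rw [← root_four]; ring
  match i with
  | 0 =>
    refine base _ _ (CharInduce.IsGen.add (CharInduce.IsGen.sub
      (CharInduce.IsGen.sub (gen_torus root_four) gen_borelTop) gen_semi) gen_one) ?_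
    funext g
    simp [th, thA, thB, (th_decomp (cls g)).1, (th_decomp (cls g)).2.1, rootNegTwo]
    ring
  | 1 =>
    refine base _ _ (CharInduce.IsGen.add (CharInduce.IsGen.sub
      (CharInduce.IsGen.sub (gen_torus hneg) gen_borelTop) gen_semi) gen_one) ?_
    funext g
    simp [th, thA, thB, (th_decomp (cls g)).2.2.1, (th_decomp (cls g)).2.2.2.1, rootNegTwo]
    ring
  | 2 =>
    refine base _ _ (CharInduce.IsGen.sub (CharInduce.IsGen.sub
      (CharInduce.IsGen.add gen_one gen_borelDet) gen_det) gen_borelTop) ?_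
    funext g
    simp [th, thA, thB, (th_decomp (cls g)).2.2.2.2.1, show tabB 2 (cls g) = 0 from rfl]
  | 3 =>
    refine base _ _ (CharInduce.IsGen.sub (CharInduce.IsGen.sub
      (CharInduce.IsGen.add gen_det gen_borel) gen_one) gen_borelTop) ?_
    funext g
    simp [th, thA, thB, (th_decomp (cls g)).2.2.2.2.2.1, show tabB 3 (cls g) = 0 from rfl]
  | 4 =>
    refine base _ _ (CharInduce.IsGen.sub
      (CharInduce.IsGen.add gen_det gen_semi) gen_borelTop) ?_
    funext g
    simp [th, thA, thB, (th_decomp (cls g)).2.2.2.2.2.2, show tabB 4 (cls g) = 0 from rfl]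

theorem th_eq_zero {i : Fin 5} {k : K} (h : ¬ Supp k) : th i k = 0 := by
  simp [th, (support_th i k h).1, (support_th i k h).2]

theorem sum_th_complex (i : Fin 5) : ∑ k : K, th i k = 48 * ((![0, 0, 1, 0, 1] : Fin 5 → ℤ) i : ℂ) := by
  simp only [th, Finset.sum_add_distrib, ← Finset.sum_mul, ← Int.cast_sum, (sum_th i).1, (sum_th i).2]
  push_cast
  ring

theorem gram_complex (i j : Fin 5) : ∑ k : K, th i k * conj (th j k) = 48 * (gram i j : ℂ) := by
  have h : ∀ k : K, th i k * conj (th j k) =
      ((thA i k * thA j k + 2 * (thB i k * thB j k) : ℤ) : ℂ) +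
        ((thB i k * thA j k - thA i k * thB j k : ℤ) : ℂ) * rootNegTwo := by
    intro k
    rw [conj_th, th]
    push_cast
    linear_combination (-(thB i k : ℂ) * thB j k) * rootNegTwo_sq
  simp only [h, Finset.sum_add_distrib, ← Finset.sum_mul, ← Int.cast_sum, (gram_sum i j).1,
    (gram_sum i j).2]
  push_cast
  ring

theorem delta_complex (k : K) :
    ∑ i : Fin 5, (coef i : ℂ) * th i k = if k = zK then 48 else 0 := by
  have h : ∀ i : Fin 5, (coef i : ℂ) * th i k =
      ((coef i * thA i k : ℤ) : ℂ) + ((coef i * thB i k : ℤ) : ℂ) * rootNegTwo := by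
    intro i; rw [th]; push_cast; ring
  simp only [h, Finset.sum_add_distrib, ← Finset.sum_mul, ← Int.cast_sum, (delta_th k).1,
    (delta_th k).2]
  split_ifs <;> simp

theorem pairs_complex (i : Fin 5) :
    ∑ k : K, conj (th i k) * (pairs k : ℂ) = 48 * (pairVal i : ℂ) := by
  have h : ∀ k : K, conj (th i k) * (pairs k : ℂ) =
      (((pairs k : ℤ) * thA i k : ℤ) : ℂ) - (((pairs k : ℤ) * thB i k : ℤ) : ℂ) * rootNegTwo := by
    intro k; rw [conj_th]; push_cast; ring
  simp only [h, Finset.sum_sub_distrib, ← Finset.sum_mul, ← Int.cast_sum, (pairs_sum i).1,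
    (pairs_sum i).2]
  push_cast
  ring

end Cfsg.Agent.H36.GLTwoThree
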