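import Cfsg.Agent.H36.GLTwoThree.Model
import Cfsg.Agent.H25.InvolutionTransfer
import Mathlib.GroupTheory.Nilpotent

/-!
# Fusion in a simple group with an involution centraliser `GL(2, 3)`
-/

set_option autoImplicit false
set_option linter.style.haveILetI false

namespace Cfsg.Agent.H36.GLTwoThree

open Subgroup

variable {G : Type*} [Group G] [Finite G]
variable {t : G}

omit [Finite G] in
theorem sq_eq_one_of_orderOf {a : G} (h : orderOf a = 2) : a ^ 2 = 1 := h ▸ pow_orderOf_eq_one a

/-- The embedding of the model. -/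
noncomputable def inc
    (e : centralizer ({t} : Set G) ≃* Matrix.GeneralLinearGroup (Fin 2) (ZMod 3)) : K →* G :=
  (centralizer ({t} : Set G)).subtype.comp (toGL.trans e.symm).toMonoidHom

variable (e : centralizer ({t} : Set G) ≃* Matrix.GeneralLinearGroup (Fin 2) (ZMod 3))

theorem inc_injective : Function.Injective (inc e) :=
  (subtype_injective _).comp (toGL.trans e.symm).injective

theorem inc_commute (k : K) : inc e k * t = t * inc e k :=
  mem_centralizer_singleton_iff.1 ((toGL.trans e.symm) k).2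

theorem exists_inc {g : G} (h : g * t = t * g) : ∃ k, inc e k = g :=
  ⟨(toGL.trans e.symm).symm ⟨g, mem_centralizer_singleton_iff.2 h⟩, by
    show (((toGL.trans e.symm) ((toGL.trans e.symm).symm ⟨g, _⟩) : centralizer ({t} : Set G)) : G) = g
    rw [MulEquiv.apply_symm_apply]⟩

include e in
theorem card_centralizer : Nat.card (centralizer ({t} : Set G)) = 48 := by
  rw [← card_K]; exact Nat.card_congr (toGL.trans e.symm).symm.toEquiv

theorem inc_zK (ht : orderOf t = 2) : inc e zK = t := by
  obtain ⟨k, hk⟩ := exists_inc e (g := t) rfl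
  have hkk : k * k = 1 := inc_injective e (by
    rw [map_mul, hk, map_one, ← pow_two, sq_eq_one_of_orderOf ht])
  have hk1 : k ≠ 1 := fun h => by rw [h, map_one] at hk; rw [← hk, orderOf_one] at ht; omega
  have hc : ∀ h : K, k * h = h * k := fun h => inc_injective e (by
    rw [map_mul, map_mul, hk, inc_commute])
  rw [← center_K k hkk hk1 hc]
  exact hk

theorem t_mem_zpowers (ht : orderOf t = 2) {x : K} (hx : Supp x) : t ∈ zpowers (inc e x) := by
  suffices hmem : inc e zK ∈ zpowers (inc e x) by rwa [inc_zK e ht] at hmem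
  rcases hx with h | h | h | h <;> rw [← h]
  · exact mem_zpowers _
  · rw [map_mul]; exact mul_mem (mem_zpowers _) (mem_zpowers _)
  · rw [map_mul, map_mul]
    exact mul_mem (mul_mem (mem_zpowers _) (mem_zpowers _)) (mem_zpowers _)
  · rw [map_mul, map_mul]
    exact mul_mem (mul_mem (mem_zpowers _) (mem_zpowers _)) (mul_mem (mem_zpowers _) (mem_zpowers _))

theorem eq_of_mem_zpowers_of_orderOf {w a b : G} (ha : a ∈ zpowers w) (hb : b ∈ zpowers w)
    (ha2 : orderOf a = 2) (hb2 : orderOf b = 2) : a = b := by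
  classical
  haveI := Fintype.ofFinite (zpowers w)
  by_contra hne
  have h := IsCyclic.card_pow_eq_one_le (α := zpowers w) (n := 2) (by norm_num)
  have hsub : ({1, ⟨a, ha⟩, ⟨b, hb⟩} : Finset (zpowers w)) ⊆
      Finset.univ.filter fun x => x ^ 2 = 1 := by
    intro x hx
    simp only [Finset.mem_insert, Finset.mem_singleton] at hx
    refine Finset.mem_filter.2 ⟨Finset.mem_univ _, Subtype.ext ?_⟩
    rcases hx with rfl | rfl | rfl
    · simp
    · show a ^ 2 = 1
      rw [← ha2, pow_orderOf_eq_one]
    · show b ^ 2 = 1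
      rw [← hb2, pow_orderOf_eq_one]
  have hc := (Finset.card_le_card hsub).trans h
  have h1a : (1 : zpowers w) ≠ ⟨a, ha⟩ := fun h' => by
    have h'' : (1 : G) = a := congrArg Subtype.val h'
    rw [← h'', orderOf_one] at ha2; omega
  have h1b : (1 : zpowers w) ≠ ⟨b, hb⟩ := fun h' => by
    have h'' : (1 : G) = b := congrArg Subtype.val h'
    rw [← h'', orderOf_one] at hb2; omega
  have hab : (⟨a, ha⟩ : zpowers w) ≠ ⟨b, hb⟩ := fun h' => hne (congrArg Subtype.val h')
  rw [Finset.card_insert_of_notMem (by simp [h1a, h1b]), Finset.card_pair hab] at hc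
  omega

/-- The special classes form a trivial intersection set. -/
theorem commute_of_conj (ht : orderOf t = 2) {x y : K} (hx : Supp x) (hy : Supp y) {g : G}
    (h : g * inc e y * g⁻¹ ∈ zpowers (inc e x)) : g * t = t * g := by
  have h1 : g * t * g⁻¹ ∈ zpowers (inc e x) := by
    obtain ⟨i, hi⟩ := mem_zpowers_iff.1 (t_mem_zpowers e ht hy)
    have h2 := zpow_mem h i
    rwa [conj_zpow, hi] at h2
  exact mul_inv_eq_iff_eq_mul.1 (eq_of_mem_zpowers_of_orderOf h1 (t_mem_zpowers e ht hx)
    ((MulEquiv.orderOf_eq (MulAut.conj g) t).trans ht) ht)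

/-- The determinant one subgroup. -/
def detOne : Subgroup K where
  carrier := {k | kdet k = 1}
  mul_mem' {a b} ha hb := by
    show qdet (qmul a.1 b.1) = 1
    rw [qdet_qmul, show qdet a.1 = 1 from ha, show qdet b.1 = 1 from hb, mul_one]
  one_mem' := by decide
  inv_mem' {a} ha := by
    have key : ∀ a : K, kdet a = 1 → kdet a⁻¹ = 1 := by decide +kernel
    exact key a ha

section Simple

variable [IsSimpleGroup G]

/-- The Sylow 2-subgroups have order 16 and all involutions of the centraliser are conjugate. -/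
theorem sylow_and_fusion (ht : orderOf t = 2) :
    (∃ m, Odd m ∧ Nat.card G = 16 * m) ∧ ∀ k : K, IsInvol k → IsConj t (inc e k) := by
  classical
  haveI : Fact (Nat.Prime 2) := ⟨Nat.prime_two⟩
  set S := semiDih.map (inc e) with hS
  have hS16 : Nat.card S = 16 := by
    rw [hS, card_map_of_injective (inc_injective e), card_semiDih]
  obtain ⟨P, hSP⟩ := (IsPGroup.of_card (n := 4) (hS16.trans (by norm_num)) : IsPGroup 2 S).exists_le_sylow
  have hPS : (P : Subgroup G) = S := by
    by_contra hne
    have hlt : S.subgroupOf P < ⊤ := lt_top_iff_ne_top.2 fun h =>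
      hne (le_antisymm (subgroupOf_eq_top.1 h) hSP)
    haveI : Group.IsNilpotent (P : Subgroup G) := P.isPGroup'.isNilpotent
    obtain ⟨n, hn, hnS⟩ := SetLike.exists_of_lt (Group.normalizerCondition_of_isNilpotent _ hlt)
    have hconj : ∀ s, s ∈ S → (n : G) * s * (n : G)⁻¹ ∈ S := fun s hs =>
      mem_subgroupOf.1 ((mem_normalizer_iff.1 hn ⟨s, hSP hs⟩).1 (mem_subgroupOf.2 hs))
    have htS : t ∈ S := ⟨zK, semiDih_zK, inc_zK e ht⟩
    obtain ⟨k, hk, hkt⟩ := hconj t htS
    have hk1 : k ≠ 1 := fun h => by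
      rw [h, map_one, eq_comm, conj_eq_one_iff] at hkt
      rw [hkt, orderOf_one] at ht; omega
    have hk2 : k * k = 1 := inc_injective e (by
      rw [map_mul, hkt, map_one, ← pow_two, conj_pow, sq_eq_one_of_orderOf ht, mul_one,
        mul_inv_cancel])
    have hkc : ∀ h ∈ semiDih, k * h = h * k := fun h hh => inc_injective e (by
      have hm : (n : G)⁻¹ * inc e h * n ∈ S := by
        have := mem_subgroupOf.1 ((mem_normalizer_iff''.1 hn ⟨inc e h, hSP ⟨h, hh, rfl⟩⟩).1
          (mem_subgroupOf.2 ⟨h, hh, rfl⟩))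
        exact this
      obtain ⟨h', hh', he⟩ := hm
      have hc := inc_commute e h'
      rw [he] at hc
      rw [map_mul, map_mul, hkt]
      calc (n : G) * t * (n : G)⁻¹ * inc e h = n * (t * ((n : G)⁻¹ * inc e h * n)) * (n : G)⁻¹ := by group
        _ = n * (((n : G)⁻¹ * inc e h * n) * t) * (n : G)⁻¹ := by rw [hc]
        _ = inc e h * (n * t * (n : G)⁻¹) := by group)
    rw [semiDih_center k hk hk1 hk2 hkc, inc_zK e ht] at hkt
    obtain ⟨j, hj⟩ := exists_inc e (mul_inv_eq_iff_eq_mul.1 hkt.symm)
    set R := (P : Subgroup G).comap (inc e) with hR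
    have hR2 : IsPGroup 2 R := P.isPGroup'.comap_of_injective _ (inc_injective e)
    have hle : semiDih ≤ R := fun h hh => hSP ⟨h, hh, rfl⟩
    have hjR : j ∈ R := by rw [hR, mem_comap, hj]; exact n.2
    have hlt' : semiDih < R := lt_of_le_of_ne hle fun h =>
      hnS (mem_subgroupOf.2 ⟨j, h.symm ▸ hjR, hj⟩)
    have hgt : 16 < Nat.card R := by
      rw [← card_semiDih]
      by_contra hc
      exact hlt'.ne (eq_of_le_of_card_ge hle (not_lt.1 hc))
    obtain ⟨a, ha⟩ := IsPGroup.iff_card.1 hR2
    have hd : Nat.card R ∣ 48 := card_K ▸ card_subgroup_dvd_card R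
    rw [ha] at hd hgt
    have ha' : a ≤ 5 := by
      by_contra h
      have := Nat.le_of_dvd (by norm_num) hd
      have := Nat.pow_le_pow_right (n := 2) (by norm_num) (show 6 ≤ a by omega)
      omega
    interval_cases a <;> omega
  have hcardP : Nat.card (P : Subgroup G) = 16 := by rw [hPS, hS16]
  refine ⟨⟨(P : Subgroup G).index, ?_, by rw [← hcardP, card_mul_index]⟩, ?_⟩
  · rw [Nat.odd_iff]
    have := P.not_dvd_index
    omega
  obtain ⟨u, huS, hud, hu⟩ := exists_reflection
  set Q := (semiDih ⊓ detOne).map (inc e) with hQ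
  have hQ8 : Nat.card Q = 8 := by
    rw [hQ, card_map_of_injective (inc_injective e), ← card_semiDih_det]
    rfl
  have hQP : Q ≤ (P : Subgroup G) := hPS ▸ map_mono inf_le_left
  have hrel : Q.relIndex (P : Subgroup G) = 2 := by
    have h1 := relIndex_mul_relIndex ⊥ Q (P : Subgroup G) bot_le hQP
    rw [relIndex_bot_left, relIndex_bot_left, hQ8, hcardP] at h1
    omega
  have hu2 : orderOf (inc e u) = 2 := by
    rw [orderOf_injective _ (inc_injective e)]
    exact orderOf_eq_prime (by rw [pow_two]; exact hu.1) hu.2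
  have huQ : inc e u ∉ Q := by
    rintro ⟨k, hk, he⟩
    exact hud (inc_injective e he ▸ (Subgroup.mem_inf.1 hk).2)
  have hconj : IsConj t (inc e u) := by
    rcases H25.thompson_transfer P Q hQP hrel _ hu2 (hPS ▸ ⟨u, huS, rfl⟩) huQ with
      ⟨M, hM, hMi, -⟩ | ⟨g, k, hk, hgk⟩
    · exfalso
      rcases hM.eq_bot_or_eq_top with h | h
      · rw [h, index_bot] at hMi
        have := card_subgroup_dvd_card (P : Subgroup G)
        rw [hcardP, hMi] at this
        norm_num at this
      · rw [h, index_top] at hMi; omega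
    · have hk2 : IsInvol k := by
        refine ⟨inc_injective e ?_, fun h => ?_⟩
        · rw [map_mul, map_one, hgk, ← pow_two, conj_pow, sq_eq_one_of_orderOf hu2, mul_one,
            mul_inv_cancel]
        · rw [h, map_one, eq_comm, conj_eq_one_iff] at hgk
          rw [hgk, orderOf_one] at hu2; omega
      rw [semiDih_det_invol k (Subgroup.mem_inf.1 hk).1 (Subgroup.mem_inf.1 hk).2 hk2,
        inc_zK e ht] at hgk
      exact (isConj_iff.2 ⟨g, hgk.symm⟩).symm
  intro k hk
  by_cases hkz : k = zK
  · rw [hkz, inc_zK e ht]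
  · have huz : u ≠ zK := fun h => hud (h ▸ by decide)
    obtain ⟨h, hh⟩ := invol_classes u k hu hk huz hkz
    refine hconj.trans (isConj_iff.2 ⟨inc e h, ?_⟩)
    rw [← map_inv, ← map_mul, ← map_mul, hh]

end Simple

end Cfsg.Agent.H36.GLTwoThree
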