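import Mathlib.LinearAlgebra.Matrix.GeneralLinearGroup.Defs
import Mathlib.LinearAlgebra.Matrix.Determinant.Basic
import Mathlib.Algebra.Field.ZMod
import Mathlib.Algebra.Group.MinimalAxioms
import Mathlib.Tactic

/-!
# A computational model of `GL(2, 3)` with the tables used for the order formula
-/

set_option autoImplicit false
set_option synthInstance.maxSize 4000
set_option synthInstance.maxHeartbeats 400000
set_option linter.unusedVariables false

namespace Cfsg.Agent.H36.GLTwoThree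

abbrev Quad : Type := ZMod 3 × ZMod 3 × ZMod 3 × ZMod 3

def qdet (q : Quad) : ZMod 3 := q.1 * q.2.2.2 - q.2.1 * q.2.2.1

def qmul (p q : Quad) : Quad :=
  (p.1 * q.1 + p.2.1 * q.2.2.1, p.1 * q.2.1 + p.2.1 * q.2.2.2,
    p.2.2.1 * q.1 + p.2.2.2 * q.2.2.1, p.2.2.1 * q.2.1 + p.2.2.2 * q.2.2.2)

def qinv (q : Quad) : Quad :=
  (q.2.2.2 * qdet q, -q.2.1 * qdet q, -q.2.2.1 * qdet q, q.1 * qdet q)

theorem qdet_qmul (p q : Quad) : qdet (qmul p q) = qdet p * qdet q := by
  simp only [qdet, qmul]; ring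

theorem qmul_assoc (p q r : Quad) : qmul (qmul p q) r = qmul p (qmul q r) := by
  simp only [qmul, Prod.mk.injEq]; refine ⟨?_, ?_, ?_, ?_⟩ <;> ring

theorem qinv_spec : ∀ q : Quad, qdet q ≠ 0 →
    qmul (qinv q) q = (1, 0, 0, 1) ∧ qdet (qinv q) ≠ 0 := by decide +kernel

/-- The elements of `GL(2, 3)`. -/
abbrev K : Type := {q : Quad // qdet q ≠ 0}

instance : One K := ⟨⟨(1, 0, 0, 1), by decide⟩⟩
instance : Mul K := ⟨fun p q => ⟨qmul p.1 q.1, by
  rw [qdet_qmul]; exact mul_ne_zero p.2 q.2⟩⟩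
instance : Inv K := ⟨fun q => ⟨qinv q.1, (qinv_spec q.1 q.2).2⟩⟩

instance : Group K :=
  Group.ofLeftAxioms (fun p q r => Subtype.ext (qmul_assoc p.1 q.1 r.1))
    (fun p => Subtype.ext (by show qmul (1, 0, 0, 1) p.1 = p.1; simp [qmul]))
    (fun p => Subtype.ext (qinv_spec p.1 p.2).1)

/-- The coordinate isomorphism. -/
noncomputable def toGL : K ≃* Matrix.GeneralLinearGroup (Fin 2) (ZMod 3) where
  toFun q := Matrix.GeneralLinearGroup.mkOfDetNeZero !![q.1.1, q.1.2.1; q.1.2.2.1, q.1.2.2.2]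
    (by rw [Matrix.det_fin_two_of]; exact q.2)
  invFun g := ⟨((g : Matrix (Fin 2) (Fin 2) (ZMod 3)) 0 0, (g : Matrix (Fin 2) (Fin 2) (ZMod 3)) 0 1,
      (g : Matrix (Fin 2) (Fin 2) (ZMod 3)) 1 0, (g : Matrix (Fin 2) (Fin 2) (ZMod 3)) 1 1), by
    have h := (Matrix.isUnit_iff_isUnit_det _).1 g.isUnit
    rw [Matrix.det_fin_two] at h
    exact h.ne_zero⟩
  left_inv q := Subtype.ext (by simp [Matrix.GeneralLinearGroup.mkOfDetNeZero, Matrix.GeneralLinearGroup.mk', Matrix.unitOfDetInvertible])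
  right_inv g := by
    ext i j
    fin_cases i <;> fin_cases j <;>
      simp [Matrix.GeneralLinearGroup.mkOfDetNeZero, Matrix.GeneralLinearGroup.mk', Matrix.unitOfDetInvertible]
  map_mul' p q := by
    ext i j
    fin_cases i <;> fin_cases j <;>
      simp [Matrix.GeneralLinearGroup.mkOfDetNeZero, Matrix.GeneralLinearGroup.mk', Matrix.unitOfDetInvertible,
        Matrix.mul_apply, Fin.sum_univ_two, show (p * q).1 = qmul p.1 q.1 from rfl, qmul]

def kdet (k : K) : ZMod 3 := qdet k.1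
def ktr (k : K) : ZMod 3 := k.1.1 + k.1.2.2.2

/-- The central involution. -/
def zK : K := ⟨(2, 0, 0, 2), by decide⟩

/-- An element of order eight. -/
def xK : K := ⟨(1, 1, 1, 0), by decide⟩

theorem card_K : Nat.card K = 48 := by
  rw [Nat.card_eq_fintype_card]; decide +kernel

theorem zK_spec : zK * zK = 1 ∧ zK ≠ 1 ∧ ∀ k : K, k * zK = zK * k := by decide +kernel

theorem center_K : ∀ k : K, k * k = 1 → k ≠ 1 → (∀ h : K, k * h = h * k) → k = zK := by
  decide +kernel

/-- Class index: `1, -1`, orders 4, 3, 6, reflections, and the two classes of order 8. -/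
def cls (k : K) : Fin 8 :=
  if kdet k = 1 then
    (if k = 1 then 0 else if k = zK then 1 else if ktr k = 0 then 2 else if ktr k = 2 then 3 else 4)
  else (if ktr k = 0 then 5 else if ktr k = 1 then 6 else 7)

/-- The support of the special classes. -/
def Supp (k : K) : Prop := k = zK ∨ k * k = zK ∨ k * k * k = zK ∨ k * k * (k * k) = zK

instance : DecidablePred Supp := fun k => inferInstanceAs (Decidable (_ ∨ _))

/-- Rational parts of the five generalised characters. -/
def tabA (i : Fin 5) (c : Fin 8) : ℤ :=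
  match i with
  | 0 => ![0, -4, -2, 0, 2, 0, 0, 0] c
  | 1 => ![0, -4, -2, 0, 2, 0, 0, 0] c
  | 2 => ![0, 8, 0, 0, 2, 0, 2, 2] c
  | 3 => ![0, 8, 0, 0, 2, 0, -2, -2] c
  | 4 => ![0, 8, 4, 0, 2, 0, 0, 0] c

/-- The coefficient of `√-2`. -/
def tabB (i : Fin 5) (c : Fin 8) : ℤ :=
  match i with
  | 0 => ![0, 0, 0, 0, 0, 0, 1, -1] c
  | 1 => ![0, 0, 0, 0, 0, 0, -1, 1] c
  | _ => 0

def thA (i : Fin 5) (k : K) : ℤ := tabA i (cls k)
def thB (i : Fin 5) (k : K) : ℤ := tabB i (cls k)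

def gram (i j : Fin 5) : ℤ :=
  ![![2, 1, 0, 0, -1], ![1, 2, 0, 0, -1], ![0, 0, 3, 1, 2], ![0, 0, 1, 3, 2],
    ![-1, -1, 2, 2, 4]] i j

def pairVal (i : Fin 5) : ℤ := ![0, 0, 4, 4, 6] i

theorem support_th : ∀ i : Fin 5, ∀ k : K, ¬ Supp k → thA i k = 0 ∧ thB i k = 0 := by
  decide +kernel

theorem gram_sum : ∀ i j : Fin 5,
    (∑ k : K, (thA i k * thA j k + 2 * (thB i k * thB j k))) = 48 * gram i j ∧
    (∑ k : K, (thB i k * thA j k - thA i k * thB j k)) = 0 := by decide +kernel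

theorem sum_th : ∀ i : Fin 5, (∑ k : K, thA i k) = 48 * ![0, 0, 1, 0, 1] i ∧
    (∑ k : K, thB i k) = 0 := by decide +kernel

def coef (i : Fin 5) : ℤ := ![-2, -2, 3, 3, -2] i

theorem delta_th : ∀ k : K, (∑ i : Fin 5, coef i * thA i k) = (if k = zK then 48 else 0) ∧
    (∑ i : Fin 5, coef i * thB i k) = 0 := by decide +kernel

def IsInvol (k : K) : Prop := k * k = 1 ∧ k ≠ 1

instance : DecidablePred IsInvol := fun k => inferInstanceAs (Decidable (_ ∧ _))

def pairs (k : K) : ℕ := (Finset.univ.filter fun h : K => IsInvol h ∧ IsInvol (h⁻¹ * k)).card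

theorem pairs_sum : ∀ i : Fin 5, (∑ k : K, (pairs k : ℤ) * thA i k) = 48 * pairVal i ∧
    (∑ k : K, (pairs k : ℤ) * thB i k) = 0 := by decide +kernel

theorem invol_classes : ∀ a b : K, IsInvol a → IsInvol b → a ≠ zK → b ≠ zK →
    ∃ h : K, h * a * h⁻¹ = b := by decide +kernel

/-! ### The subgroups used for monomial characters -/

def borel : Subgroup K where
  carrier := {k | k.1.2.2.1 = 0}
  mul_mem' {a b} ha hb := by
    have key : ∀ a b : K, a.1.2.2.1 = 0 → b.1.2.2.1 = 0 → (a * b).1.2.2.1 = 0 := by decide +kernel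
    exact key a b ha hb
  one_mem' := rfl
  inv_mem' {a} ha := by
    have key : ∀ a : K, a.1.2.2.1 = 0 → a⁻¹.1.2.2.1 = 0 := by decide +kernel
    exact key a ha

def semiDih : Subgroup K where
  carrier := {k | k * xK = xK * k ∨ k * xK = xK * xK * xK * k}
  mul_mem' {a b} ha hb := by
    have key : ∀ a b : K, (a * xK = xK * a ∨ a * xK = xK * xK * xK * a) →
        (b * xK = xK * b ∨ b * xK = xK * xK * xK * b) →
        (a * b * xK = xK * (a * b) ∨ a * b * xK = xK * xK * xK * (a * b)) := by decide +kernel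
    exact key a b ha hb
  one_mem' := Or.inl (by decide)
  inv_mem' {a} ha := by
    have key : ∀ a : K, (a * xK = xK * a ∨ a * xK = xK * xK * xK * a) →
        (a⁻¹ * xK = xK * a⁻¹ ∨ a⁻¹ * xK = xK * xK * xK * a⁻¹) := by decide +kernel
    exact key a ha

def torus : Subgroup K where
  carrier := {k | k * xK = xK * k}
  mul_mem' {a b} ha hb := by
    show a * b * xK = xK * (a * b)
    rw [mul_assoc, hb, ← mul_assoc, ha, mul_assoc]
  one_mem' := by simp
  inv_mem' {a} ha := (Commute.inv_left (show Commute a xK from ha))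

instance : DecidablePred (· ∈ borel) := fun k => inferInstanceAs (Decidable (k.1.2.2.1 = 0))
instance : DecidablePred (· ∈ semiDih) := fun k =>
  inferInstanceAs (Decidable (k * xK = xK * k ∨ k * xK = xK * xK * xK * k))
instance : DecidablePred (· ∈ torus) := fun k => inferInstanceAs (Decidable (k * xK = xK * k))

/-- `±1` as an integer. -/
def sgn (a : ZMod 3) : ℤ := if a = 2 then -1 else 1

def monOne (c : Fin 8) : ℤ := ![1, 1, 1, 1, 1, 1, 1, 1] c
def monDet (c : Fin 8) : ℤ := ![1, 1, 1, 1, 1, -1, -1, -1] c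
def monBorel (c : Fin 8) : ℤ := ![4, 4, 0, 1, 1, 2, 0, 0] c
def monBorelDet (c : Fin 8) : ℤ := ![4, 4, 0, 1, 1, -2, 0, 0] c
def monBorelTop (c : Fin 8) : ℤ := ![4, -4, 0, 1, -1, 0, 0, 0] c
def monSemi (c : Fin 8) : ℤ := ![3, 3, 3, 0, 0, 1, 1, 1] c
def monTorusA (c : Fin 8) : ℤ := ![6, -6, 0, 0, 0, 0, 0, 0] c
def monTorusB (c : Fin 8) : ℤ := ![0, 0, 0, 0, 0, 0, 1, -1] c

theorem th_decomp : ∀ c : Fin 8,
    tabA 0 c = monTorusA c - monBorelTop c - monSemi c + monOne c ∧ tabB 0 c = monTorusB c ∧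
    tabA 1 c = monTorusA c - monBorelTop c - monSemi c + monOne c ∧ tabB 1 c = -monTorusB c ∧
    tabA 2 c = monOne c + monBorelDet c - monDet c - monBorelTop c ∧
    tabA 3 c = monDet c + monBorel c - monOne c - monBorelTop c ∧
    tabA 4 c = monDet c + monSemi c - monBorelTop c := by decide +kernel

theorem card_borel : Nat.card borel = 12 := by rw [Nat.card_eq_fintype_card]; decide +kernel
theorem card_semiDih : Nat.card semiDih = 16 := by rw [Nat.card_eq_fintype_card]; decide +kernel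
theorem card_torus : Nat.card torus = 8 := by rw [Nat.card_eq_fintype_card]; decide +kernel

theorem sgn_mul_det : ∀ a b : K, sgn (kdet (a * b)) = sgn (kdet a) * sgn (kdet b) := by
  decide +kernel

theorem sgn_mul_top : ∀ a b : K, a ∈ borel → b ∈ borel →
    sgn ((a * b).1.1) = sgn a.1.1 * sgn b.1.1 := by decide +kernel

theorem ind_det : ∀ g : K,
    (∑ h : K, sgn (kdet (h⁻¹ * g * h))) = 48 * monDet (cls g) := by decide +kernel

theorem ind_borel : ∀ g : K,
    (∑ h : K, if h⁻¹ * g * h ∈ borel then (1 : ℤ) else 0) = 12 * monBorel (cls g) ∧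
    (∑ h : K, if h⁻¹ * g * h ∈ borel then sgn (kdet (h⁻¹ * g * h)) else 0) =
      12 * monBorelDet (cls g) ∧
    (∑ h : K, if h⁻¹ * g * h ∈ borel then sgn ((h⁻¹ * g * h).1.1) else 0) =
      12 * monBorelTop (cls g) := by decide +kernel

theorem ind_semi : ∀ g : K,
    (∑ h : K, if h⁻¹ * g * h ∈ semiDih then (1 : ℤ) else 0) = 16 * monSemi (cls g) := by
  decide +kernel

/-- The logarithm to base `xK`. -/
def lg (k : K) : ℕ :=
  if k = 1 then 0 else if k = xK then 1 else if k = xK * xK then 2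
  else if k = xK * xK * xK then 3 else if k = zK then 4 else if k = zK * xK then 5
  else if k = zK * (xK * xK) then 6 else 7

theorem lg_mul : ∀ a b : K, a ∈ torus → b ∈ torus → lg (a * b) = (lg a + lg b) % 8 := by
  decide +kernel

theorem lg_lt (k : K) : lg k < 8 := by
  unfold lg; split_ifs <;> norm_num

/-- Coefficients of `ω ^ m` in the basis `1, ω, ω², ω³`, where `ω ^ 4 = -1`. -/
def rootCoef (j : Fin 4) (m : ℕ) : ℤ :=
  if m = j.val then 1 else if m = j.val + 4 then -1 else 0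

theorem ind_torus : ∀ g : K,
    (∑ h : K, if h⁻¹ * g * h ∈ torus then rootCoef 0 (lg (h⁻¹ * g * h)) else 0) =
      8 * monTorusA (cls g) ∧
    (∑ h : K, if h⁻¹ * g * h ∈ torus then rootCoef 1 (lg (h⁻¹ * g * h)) else 0) =
      8 * monTorusB (cls g) ∧
    (∑ h : K, if h⁻¹ * g * h ∈ torus then rootCoef 2 (lg (h⁻¹ * g * h)) else 0) = 0 ∧
    (∑ h : K, if h⁻¹ * g * h ∈ torus then rootCoef 3 (lg (h⁻¹ * g * h)) else 0) =
      8 * monTorusB (cls g) := by decide +kernel

/-! ### Facts for the fusion argument -/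

theorem semiDih_center : ∀ k ∈ semiDih, k ≠ 1 → k * k = 1 →
    (∀ h ∈ semiDih, k * h = h * k) → k = zK := by decide +kernel

theorem semiDih_zK : zK ∈ semiDih := by decide +kernel

theorem semiDih_det_invol : ∀ k ∈ semiDih, kdet k = 1 → IsInvol k → k = zK := by decide +kernel

theorem exists_reflection : ∃ k, k ∈ semiDih ∧ kdet k ≠ 1 ∧ IsInvol k := by decide +kernel

theorem card_semiDih_det : Nat.card {k : K // k ∈ semiDih ∧ kdet k = 1} = 8 := by
  rw [Nat.card_eq_fintype_card]; decide +kernel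

end Cfsg.Agent.H36.GLTwoThree
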