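import Cfsg.Agent.H36.GLTwoThree.Arith
import Cfsg.Agent.H36.GLTwoThree.Chars
import Cfsg.Agent.H36.GLTwoThree.Fusion
import Cfsg.Agent.CharBasic.Complete
import Cfsg.Agent.CharBasic.Kernel
import Cfsg.Agent.H83.ClassConst
import Mathlib.GroupTheory.Subgroup.Simple

/-!
# A simple group with an involution centraliser `GL(2, 3)` has order 5616 or 7920
-/

set_option autoImplicit false
set_option linter.style.haveILetI false

namespace Cfsg.Agent.H36.GLTwoThree

open Subgroup Cfsg Cfsg.Agent.CharBasic Cfsg.Agent.CharInduce Finset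
open scoped ComplexConjugate

universe u

variable {G : Type u} [Group G] [Fintype G]
variable {t : G}
variable (e : centralizer ({t} : Set G) ≃* Matrix.GeneralLinearGroup (Fin 2) (ZMod 3))

/-- The coefficient of a character in the induced generalised character. -/
noncomputable def coeffTh (i : Fin 5) (χ : IrrCharacter G) : ℂ :=
  classInner (th i) (fun k : K => (χ : G → ℂ) (inc e k))

theorem coeffTh_apply (i : Fin 5) (χ : IrrCharacter G) :
    coeffTh e i χ = (48 : ℂ)⁻¹ * ∑ k : K, th i k * conj ((χ : G → ℂ) (inc e k)) := by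
  rw [coeffTh, classInner_def, card_K, Nat.cast_ofNat]

theorem exists_coeffTh (i : Fin 5) (χ : IrrCharacter G) : ∃ n : ℤ, coeffTh e i χ = n :=
  CharInduce.IsGen.exists_int_coeff (gen_th i) (IsChar.comp (IsIrr.isCharacter χ.2) (inc e))

theorem column_inner (ht : orderOf t = 2) {x y : K} (hx : Supp x) (hy : Supp y) :
    ∑ χ : IrrCharacter G, (χ : G → ℂ) (inc e x) * conj ((χ : G → ℂ) (inc e y)) =
      ∑ h : K, if h * y * h⁻¹ = x then (1 : ℂ) else 0 := by
  classical
  rw [second_orthogonality_count, Finset.sum_boole]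
  congr 1
  rw [← Fintype.card_subtype, ← Nat.card_eq_fintype_card]
  refine (Nat.card_congr (Equiv.ofBijective
    (fun h : {h : K // h * y * h⁻¹ = x} => (⟨inc e h.1, by
      rw [← map_inv, ← map_mul, ← map_mul, h.2]⟩ : {g : G // g * inc e y * g⁻¹ = inc e x}))
    ⟨fun a b hab => by
      have hab' : inc e a.1 = inc e b.1 := by simpa using hab
      exact Subtype.ext (inc_injective e hab'), fun g => ?_⟩)).symm
  obtain ⟨h, hh⟩ := exists_inc e (commute_of_conj e ht hx hy (g := g.1)
    (by rw [g.2]; exact mem_zpowers _))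
  refine ⟨⟨h, inc_injective e ?_⟩, Subtype.ext hh⟩
  rw [map_mul, map_mul, map_inv, hh, g.2]

theorem th_conj (i : Fin 5) (h k : K) : th i (h * k * h⁻¹) = th i k :=
  CharInduce.IsGen.isClassFunction (gen_th i) k h

theorem not_supp_one : ¬ Supp 1 := by decide +kernel

theorem gram_coeff (ht : orderOf t = 2) (i j : Fin 5) :
    ∑ χ : IrrCharacter G, coeffTh e i χ * coeffTh e j χ = (gram i j : ℂ) := by
  classical
  have hreal : ∀ χ, conj (coeffTh e j χ) = coeffTh e j χ := fun χ => by
    obtain ⟨n, hn⟩ := exists_coeffTh e j χ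
    rw [hn, map_intCast]
  have h1 : ∀ χ : IrrCharacter G, coeffTh e i χ * coeffTh e j χ =
      (48 : ℂ)⁻¹ * (48 : ℂ)⁻¹ * ∑ x : K, ∑ y : K, th i x * conj (th j y) *
        ((χ : G → ℂ) (inc e y) * conj ((χ : G → ℂ) (inc e x))) := fun χ => by
    rw [← hreal χ, coeffTh_apply, coeffTh_apply, map_mul, map_inv₀, map_ofNat, map_sum,
      mul_mul_mul_comm, Finset.sum_mul_sum]
    congr 1
    refine Finset.sum_congr rfl fun x _ => Finset.sum_congr rfl fun y _ => ?_
    rw [map_mul, Complex.conj_conj]; ring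
  rw [Finset.sum_congr rfl fun χ _ => h1 χ, ← Finset.mul_sum, Finset.sum_comm]
  rw [Finset.sum_congr rfl fun x _ => Finset.sum_comm]
  simp only [← Finset.mul_sum]
  have h2 : ∀ x y : K, th i x * conj (th j y) *
      ∑ χ : IrrCharacter G, (χ : G → ℂ) (inc e y) * conj ((χ : G → ℂ) (inc e x)) =
      th i x * conj (th j y) * ∑ h : K, if h * x * h⁻¹ = y then (1 : ℂ) else 0 := by
    intro x y
    by_cases hx : Supp x
    · by_cases hy : Supp y
      · rw [column_inner e ht hy hx]
      · simp [th_eq_zero hy]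
    · simp [th_eq_zero hx]
  rw [Finset.sum_congr rfl fun x _ => Finset.sum_congr rfl fun y _ => h2 x y]
  have hin : ∀ (c : ℂ) (f : K → ℂ), c * ∑ h : K, f h = ∑ h : K, c * f h := fun c f => Finset.mul_sum _ _ _
  conv_lhs => arg 2; arg 2; ext x; arg 2; ext y; rw [hin]
  simp only [mul_ite, mul_one, mul_zero]
  rw [show (∑ x : K, ∑ y : K, ∑ h : K,
      if h * x * h⁻¹ = y then th i x * conj (th j y) else 0) =
      ∑ x : K, (48 : ℂ) * (th i x * conj (th j x)) from Finset.sum_congr rfl fun x _ => by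
    rw [Finset.sum_comm]
    simp only [Finset.sum_ite_eq, Finset.mem_univ, if_true, th_conj, Finset.sum_const,
      Finset.card_univ, ← Nat.card_eq_fintype_card, card_K, nsmul_eq_mul, Nat.cast_ofNat]]
  rw [← Finset.mul_sum, gram_complex]
  field_simp

theorem degree_coeff (ht : orderOf t = 2) (i : Fin 5) :
    ∑ χ : IrrCharacter G, coeffTh e i χ * (χ : G → ℂ) 1 = 0 := by
  simp only [coeffTh_apply, mul_assoc, Finset.sum_mul, ← Finset.mul_sum]
  rw [Finset.sum_comm]
  refine mul_eq_zero_of_right _ (Finset.sum_eq_zero fun x _ => ?_)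
  rw [← Finset.mul_sum]
  by_cases hx : Supp x
  · refine mul_eq_zero_of_right _ ?_
    have h := second_orthogonality_not_isConj (g := (1 : G)) (h := inc e x) (fun hc => by
      rw [isConj_one_right] at hc
      exact not_supp_one ((inc_injective e (hc.trans (map_one (inc e)).symm)) ▸ hx))
    rw [← h]
    exact Finset.sum_congr rfl fun χ _ => mul_comm _ _
  · rw [th_eq_zero hx, zero_mul]

theorem value_coeff (ht : orderOf t = 2) (χ : IrrCharacter G) :
    ∑ i : Fin 5, (coef i : ℂ) * coeffTh e i χ = conj ((χ : G → ℂ) t) := by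
  simp only [coeffTh_apply, mul_left_comm _ (48 : ℂ)⁻¹, ← Finset.mul_sum]
  simp only [Finset.mul_sum (s := (Finset.univ : Finset K)), ← mul_assoc]
  rw [Finset.sum_comm]
  simp only [mul_assoc (48 : ℂ)⁻¹, ← Finset.sum_mul, ← Finset.mul_sum, delta_complex, ite_mul,
    zero_mul]
  simp [inc_zK e ht]

theorem invol_iff {k : K} : IsInvol k ↔ orderOf (inc e k) = 2 := by
  rw [orderOf_injective _ (inc_injective e), orderOf_eq_iff (by norm_num)]
  constructor
  · rintro ⟨h1, h2⟩
    exact ⟨by rw [pow_two]; exact h1, fun m hm hm0 => by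
      obtain rfl : m = 1 := by omega
      rwa [pow_one]⟩
  · rintro ⟨h1, h2⟩
    exact ⟨by rw [← pow_two]; exact h1, by simpa using h2 1 one_lt_two one_pos⟩

theorem card_pairs_inc [IsSimpleGroup G] (ht : orderOf t = 2) {x : K} (hx : Supp x) :
    Nat.card {a : G // IsConj t a ∧ IsConj t (a⁻¹ * inc e x)} = pairs x := by
  classical
  have hinv : ∀ k : K, IsInvol k → IsConj t (inc e k) := (sylow_and_fusion e ht).2
  have hord : ∀ {a : G}, IsConj t a → orderOf a = 2 := fun {a} h => by
    obtain ⟨c, rfl⟩ := isConj_iff.1 h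
    exact (MulEquiv.orderOf_eq (MulAut.conj c) t).trans ht
  rw [pairs, ← Fintype.card_subtype, ← Nat.card_eq_fintype_card]
  refine (Nat.card_congr (Equiv.ofBijective
    (fun h : {h : K // IsInvol h ∧ IsInvol (h⁻¹ * x)} =>
      (⟨inc e h.1, hinv _ h.2.1, by rw [← map_inv, ← map_mul]; exact hinv _ h.2.2⟩ :
        {a : G // IsConj t a ∧ IsConj t (a⁻¹ * inc e x)}))
    ⟨fun a b hab => by
      have hab' : inc e a.1 = inc e b.1 := by simpa using hab
      exact Subtype.ext (inc_injective e hab'), fun g => ?_⟩)).symm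
  obtain ⟨a, ha, hb⟩ := g
  have ha2 := sq_eq_one_of_orderOf (hord ha)
  have hb2 := sq_eq_one_of_orderOf (hord hb)
  rw [pow_two] at ha2 hb2
  have hinvert : a * inc e x * a⁻¹ ∈ zpowers (inc e x) := by
    have : a * inc e x * a⁻¹ = (inc e x)⁻¹ := by
      rw [inv_eq_of_mul_eq_one_right ha2] at hb2 ⊢
      refine eq_inv_of_mul_eq_one_left ?_
      rw [← hb2]; group
    rw [this]
    exact inv_mem (mem_zpowers _)
  obtain ⟨h, hh⟩ := exists_inc e (commute_of_conj e ht hx hx hinvert)
  refine ⟨⟨h, (invol_iff e).2 (hh ▸ hord ha), (invol_iff e).2 ?_⟩, Subtype.ext hh⟩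
  rw [map_mul, map_inv, hh]
  exact hord hb

theorem pair_column [IsSimpleGroup G] (ht : orderOf t = 2) {x : K} (hx : Supp x) :
    (Nat.card G : ℂ) * ∑ χ : IrrCharacter G,
        conj ((χ : G → ℂ) t) ^ 2 * (χ : G → ℂ) (inc e x) / (χ : G → ℂ) 1 =
      2304 * (pairs x : ℂ) := by
  have h := H83.card_pairs_mul_card t t (inc e x)
  rw [card_pairs_inc e ht hx] at h
  have hidx : ((centralizer ({t} : Set G)).index : ℂ) * 48 = (Nat.card G : ℂ) := by
    rw [← index_mul_card (centralizer ({t} : Set G)), card_centralizer e]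
    push_cast; rfl
  have hne : ((centralizer ({t} : Set G)).index : ℂ) ≠ 0 := fun h0 => by
    rw [h0, zero_mul] at hidx
    exact card_ne_zero_complex G hidx.symm
  rw [← hidx] at h ⊢
  apply mul_left_cancel₀ hne
  simp only [pow_two]
  linear_combination (-2304 : ℂ) * 0 + (-48 : ℂ) * h

theorem eq_one_of_degree [IsSimpleGroup G] (hG : ¬ IsMulCommutative G) {χ : IrrCharacter G}
    (h1 : (χ : G → ℂ) 1 = 1) : (χ : G → ℂ) = fun _ => 1 := by
  obtain ⟨l, hl⟩ := IsChar.exists_hom_of_degree_one (IsIrr.isCharacter χ.2) h1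
  rcases (MonoidHom.normal_ker l).eq_bot_or_eq_top with h | h
  · exact absurd ⟨⟨fun a b => (MonoidHom.ker_eq_bot_iff l).1 h (by
      rw [map_mul, map_mul, mul_comm])⟩⟩ hG
  · funext g
    rw [hl, show l g = 1 from MonoidHom.mem_ker.1 (h ▸ mem_top g)]
    simp

include e in
theorem card_eq [IsSimpleGroup G] (ht : orderOf t = 2) :
    Nat.card G = 5616 ∨ Nat.card G = 7920 := by
  classical
  obtain ⟨⟨m, hm, hcard⟩, -⟩ := sylow_and_fusion e ht
  have hG : ¬ IsMulCommutative G := by
    intro hG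
    have hC : centralizer ({t} : Set G) = ⊤ := eq_top_iff.2 fun g _ =>
      mem_centralizer_singleton_iff.2 (hG.is_comm.comm g t)
    have hc : ∀ a b : K, a * b = b * a := fun a b => inc_injective e (by
      rw [map_mul, map_mul]; exact hG.is_comm.comm _ _)
    exact absurd (hc xK ⟨(1, 1, 0, 1), by decide⟩) (by decide +kernel)
  choose A hA using fun (i : Fin 5) (χ : IrrCharacter G) => exists_coeffTh e i χ
  choose d hdpos hd using fun χ : IrrCharacter G => CharBasic.IsIrr.exists_degree χ.2
  let q : IrrCharacter G → ℤ := fun χ => ∑ i, coef i * A i χ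
  have hq : ∀ χ : IrrCharacter G, conj ((χ : G → ℂ) t) = (q χ : ℂ) := fun χ => by
    rw [← value_coeff e ht χ]
    simp only [q, hA]
    push_cast
    rfl
  let o : IrrCharacter G := ⟨fun _ => 1, isIrrCharacter_one⟩
  have key := order_of_table o m hm (fun χ => (d χ : ℤ)) q A ?_ ?_ ?_ ?_ ?_ ?_ ?_ ?_
  · rwa [hcard]
  · intro i j
    have h := gram_coeff e ht i j
    simp only [hA] at h
    exact_mod_cast h
  · intro i
    have h := coeffTh_apply e i o
    rw [hA] at h
    simp only [o, map_one, mul_one] at h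
    rw [sum_th_complex, inv_mul_cancel_left₀ (by norm_num)] at h
    exact_mod_cast h
  · have h : (d o : ℂ) = 1 := (hd o).symm
    exact_mod_cast h
  · intro χ
    have := hdpos χ
    exact_mod_cast this.ne'
  · intro χ hχ
    refine ⟨fun h => hχ (Subtype.ext ?_), fun h => ?_⟩
    · refine eq_one_of_degree hG ?_
      rw [hd χ]
      exact_mod_cast h
    · have := hdpos χ
      omega
  · intro i
    have h := degree_coeff e ht i
    simp only [hA, hd] at h
    exact_mod_cast h
  · intro χ; rfl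
  · intro i
    have hreal : ∀ χ : IrrCharacter G, (A i χ : ℂ) =
        (48 : ℂ)⁻¹ * ∑ k : K, conj (th i k) * (χ : G → ℂ) (inc e k) := fun χ => by
      rw [← map_intCast (starRingEnd ℂ), ← hA, coeffTh_apply, map_mul, map_inv₀, map_ofNat, map_sum]
      simp
    have h : (Nat.card G : ℂ) *
        ∑ χ : IrrCharacter G, (A i χ : ℂ) * (q χ : ℂ) ^ 2 / (d χ : ℂ) = 2304 * (pairVal i : ℂ) := by
      calc (Nat.card G : ℂ) * ∑ χ : IrrCharacter G, (A i χ : ℂ) * (q χ : ℂ) ^ 2 / (d χ : ℂ)
          = (48 : ℂ)⁻¹ * ∑ k : K, conj (th i k) * ((Nat.card G : ℂ) * ∑ χ : IrrCharacter G,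
              conj ((χ : G → ℂ) t) ^ 2 * (χ : G → ℂ) (inc e k) / (χ : G → ℂ) 1) := by
            simp only [Finset.mul_sum]
            rw [Finset.sum_comm]
            refine Finset.sum_congr rfl fun χ _ => ?_
            rw [hreal, hq, hd, Finset.mul_sum, Finset.sum_mul, Finset.sum_div, Finset.mul_sum]
            exact Finset.sum_congr rfl fun k _ => by ring
        _ = (48 : ℂ)⁻¹ * ∑ k : K, conj (th i k) * (2304 * (pairs k : ℂ)) := by
            congr 1
            refine Finset.sum_congr rfl fun k _ => ?_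
            by_cases hk : Supp k
            · rw [pair_column e ht hk]
            · simp [th_eq_zero hk]
        _ = 2304 * (pairVal i : ℂ) := by
            simp only [mul_left_comm _ (2304 : ℂ), ← Finset.mul_sum, pairs_complex]
            field_simp
    rw [hcard] at h
    have h' : (((((16 * m : ℕ) : ℚ)) *
        ∑ χ : IrrCharacter G, (A i χ : ℚ) * (q χ : ℚ) ^ 2 / ((d χ : ℤ) : ℚ) : ℚ) : ℂ) =
        ((2304 * (pairVal i : ℚ) : ℚ) : ℂ) := by
      push_cast at h ⊢
      exact h
    exact Rat.cast_injective h'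

end Cfsg.Agent.H36.GLTwoThree
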